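import Mathlib

/-!
# Groups with the order and the element orders of `PSL(2, q)`: the Sylow `p`-subgroups meet trivially

A group `G` of order `q a b d` (`a d = q - 1`, `b d = q + 1`) all of whose element orders divide `p`,
`a` or `b` has pairwise disjointly meeting Sylow `p`-subgroups.
-/

set_option autoImplicit false
set_option linter.style.haveILetI false

namespace CfsgLib.CharsMore.SpectrumPSL

open Subgroup

universe u

variable {G : Type u} [Group G]

/-- The numerical and spectral data of `PSL(2, q)`, `q = p ^ f ≥ 4`. -/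
structure Data (G : Type u) [Group G] (p q a b d : ℕ) : Prop where
  pow : ∃ f : ℕ, 0 < f ∧ q = p ^ f
  four : 4 ≤ q
  ha : a * d + 1 = q
  hb : b * d = q + 1
  hd : (p = 2 ∧ d = 1) ∨ (p ≠ 2 ∧ d = 2)
  card : Nat.card G = q * (a * b * d)
  spec : ∀ g : G, orderOf g ∣ p ∨ orderOf g ∣ a ∨ orderOf g ∣ b
  exa : ∃ g : G, orderOf g = a
  exb : ∃ g : G, orderOf g = b

/-- Commuting elements of coprime order. -/
theorem orderOf_mul_pow_div [Finite G] {y z : G} (hc : Commute y z) {r s : ℕ} (hr : r.Prime)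
    (hs : s.Prime) (hrs : r ≠ s) (hy : r ∣ orderOf y) (hz : s ∣ orderOf z) :
    ∃ g : G, orderOf g = r * s := by
  have hcop : r.Coprime s := (Nat.coprime_primes hr hs).2 hrs
  have h1 := orderOf_pow_orderOf_div (orderOf_pos y).ne' hy
  have h2 := orderOf_pow_orderOf_div (orderOf_pos z).ne' hz
  refine ⟨y ^ (orderOf y / r) * z ^ (orderOf z / s), ?_⟩
  rw [(hc.pow_pow _ _).orderOf_mul_eq_mul_orderOf_of_coprime (by rwa [h1, h2]), h1, h2]

theorem exists_eq_pow {n p : ℕ} (hn : n ≠ 0) (h : ∀ s : ℕ, s.Prime → s ∣ n → s = p) :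
    ∃ k, n = p ^ k :=
  ⟨_, Nat.eq_prime_pow_of_unique_prime_dvd hn fun {s} hs hd => h s hs hd⟩

namespace Data

variable {p q a b d : ℕ} (D : Data G p q a b d)
include D

theorem d_pos : 0 < d := by rcases D.hd with ⟨-, h⟩ | ⟨-, h⟩ <;> omega

theorem p_dvd_q : p ∣ q := by
  obtain ⟨f, hf, rfl⟩ := D.pow
  exact dvd_pow_self p hf.ne'

theorem two_le_a : 2 ≤ a := by
  have := D.four; have := D.ha
  rcases D.hd with ⟨-, h⟩ | ⟨-, h⟩ <;> subst h <;> omega

theorem two_le_b : 2 ≤ b := by
  have := D.four; have := D.hb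
  rcases D.hd with ⟨-, h⟩ | ⟨-, h⟩ <;> subst h <;> omega

theorem coprime_ab : a.Coprime b := by
  have ha := D.ha; have hb := D.hb
  have hg1 := Nat.gcd_dvd_left a b
  have hg2 := Nat.gcd_dvd_right a b
  rcases D.hd with ⟨hp, h⟩ | ⟨-, h⟩ <;> subst h
  · have h2 : Nat.gcd a b ∣ 2 := by
      have := Nat.dvd_sub hg2 hg1
      rwa [show b - a = 2 by omega] at this
    rcases (Nat.dvd_prime Nat.prime_two).1 h2 with h | h
    · exact h
    · exfalso
      have h2q : 2 ∣ q := hp ▸ D.p_dvd_q
      rw [h] at hg1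
      omega
  · have := Nat.dvd_sub hg2 hg1
    rw [show b - a = 1 by omega] at this
    exact Nat.dvd_one.1 this

theorem coprime_q_a : q.Coprime a := by
  have h : Nat.gcd q a ∣ 1 := (Nat.dvd_add_right ((Nat.gcd_dvd_right q a).mul_right d)).1
    (by rw [D.ha]; exact Nat.gcd_dvd_left q a)
  exact Nat.dvd_one.1 h

theorem coprime_q_b : q.Coprime b := by
  have h : Nat.gcd q b ∣ 1 := (Nat.dvd_add_right (Nat.gcd_dvd_left q b)).1
    (by rw [← D.hb]; exact (Nat.gcd_dvd_right q b).mul_right d)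
  exact Nat.dvd_one.1 h

theorem coprime_q_d : q.Coprime d := by
  rcases D.hd with ⟨-, h⟩ | ⟨hp, h⟩ <;> subst h
  · exact Nat.coprime_one_right q
  · obtain ⟨f, hf, rfl⟩ := D.pow
    refine Nat.Coprime.pow_left f ?_
    rcases Nat.coprime_or_dvd_of_prime Nat.prime_two p with h | h
    · exact h.symm
    · exfalso
      have h2 : 2 ∣ a * 2 + 1 := D.ha ▸ h.trans (dvd_pow_self p hf.ne')
      omega

theorem not_p_dvd_a [hp : Fact p.Prime] : ¬ p ∣ a := fun h =>
  hp.out.not_dvd_one (D.coprime_q_a ▸ Nat.dvd_gcd D.p_dvd_q h)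

theorem not_p_dvd_b [hp : Fact p.Prime] : ¬ p ∣ b := fun h =>
  hp.out.not_dvd_one (D.coprime_q_b ▸ Nat.dvd_gcd D.p_dvd_q h)

theorem finite : Finite G := by
  refine Nat.finite_of_card_ne_zero ?_
  rw [D.card]
  have := D.four; have := D.two_le_a; have := D.two_le_b; have := D.d_pos
  positivity

theorem pow_eq_one_of_pElement [hp : Fact p.Prime] {g : G} {k : ℕ} (h : g ^ p ^ k = 1) :
    g ^ p = 1 := by
  obtain ⟨i, -, hi⟩ := (Nat.dvd_prime_pow hp.out).1 (orderOf_dvd_of_pow_eq_one h)
  rcases i with _ | i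
  · rw [pow_zero, orderOf_eq_one_iff] at hi
    rw [hi, one_pow]
  · have hpd : p ∣ orderOf g := hi ▸ dvd_pow_self p i.succ_ne_zero
    rcases D.spec g with h' | h' | h'
    · exact orderOf_dvd_iff_pow_eq_one.1 h'
    · exact (D.not_p_dvd_a (hpd.trans h')).elim
    · exact (D.not_p_dvd_b (hpd.trans h')).elim

/-- The centralizer of an element of order `p` has exponent `p`. -/
theorem pow_eq_one_of_commute [hp : Fact p.Prime] {x y : G} (hx : x ^ p = 1) (hx1 : x ≠ 1)
    (hc : Commute x y) : y ^ p = 1 := by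
  haveI := D.finite
  by_cases hy : ∀ s : ℕ, s.Prime → s ∣ orderOf y → s = p
  · obtain ⟨k, hk⟩ := exists_eq_pow (orderOf_pos y).ne' hy
    exact D.pow_eq_one_of_pElement (k := k) (hk ▸ pow_orderOf_eq_one y)
  · push Not at hy
    obtain ⟨s, hs, hsd, hsp⟩ := hy
    obtain ⟨g, hg⟩ := orderOf_mul_pow_div hc hp.out hs hsp.symm
      (orderOf_eq_prime hx hx1).symm.dvd hsd
    rcases D.spec g with h | h | h
    · exfalso
      rw [hg] at h
      have := (Nat.dvd_prime hp.out).1 h
      rcases this with h1 | h1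
      · have := hp.out.two_le; nlinarith [hs.two_le]
      · have := hp.out.two_le; nlinarith [hs.two_le]
    · exact absurd ((dvd_mul_right p s).trans (hg ▸ h)) D.not_p_dvd_a
    · exact absurd ((dvd_mul_right p s).trans (hg ▸ h)) D.not_p_dvd_b

theorem card_sylow [hp : Fact p.Prime] (P : Sylow p G) : Nat.card (P : Subgroup G) = q := by
  haveI := D.finite
  obtain ⟨f, hf, hq⟩ := D.pow
  have hnd : ¬ p ∣ a * b * d := by
    intro h
    rcases hp.out.dvd_mul.1 h with h | h
    · rcases hp.out.dvd_mul.1 h with h | h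
      · exact D.not_p_dvd_a h
      · exact D.not_p_dvd_b h
    · exact hp.out.not_dvd_one (D.coprime_q_d ▸ Nat.dvd_gcd D.p_dvd_q h)
  have h0 : a * b * d ≠ 0 := by
    have := D.two_le_a; have := D.two_le_b; have := D.d_pos; positivity
  rw [P.card_eq_multiplicity, D.card, hq, Nat.factorization_mul (pow_ne_zero f hp.out.ne_zero) h0,
    Finsupp.add_apply, hp.out.factorization_pow, Finsupp.single_eq_same,
    Nat.factorization_eq_zero_of_not_dvd hnd, add_zero]

theorem pow_eq_one_of_mem [Fact p.Prime] (P : Sylow p G) {x : G} (hx : x ∈ (P : Subgroup G)) :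
    x ^ p = 1 := by
  obtain ⟨k, hk⟩ := P.isPGroup' ⟨x, hx⟩
  exact D.pow_eq_one_of_pElement (k := k) (congrArg Subtype.val hk)

omit D in
/-- A congruence computation. -/
theorem zmod_two {r : ℕ} (q o e : ZMod r) (ho : o = 0)
    (h : (o + 1 = q ∧ e = q + 1) ∨ (o = q + 1 ∧ e + 1 = q)) : q * e = 2 := by
  subst ho
  rcases h with ⟨h1, h2⟩ | ⟨h1, h2⟩
  · subst h1; subst h2; ring
  · have hq : q = -1 := by linear_combination -h1
    subst hq
    have he : e = -2 := by linear_combination h2
    subst he; ring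

/-- Sylow subgroups for the odd primes different from `p` are cyclic, and their normalizers
induce automorphisms of order at most two. -/
theorem sylow_odd [hp : Fact p.Prime] {r : ℕ} [hr : Fact r.Prime] (hr2 : r ≠ 2) {o e : ℕ}
    (hoe : (o = a ∧ e = b) ∨ (o = b ∧ e = a)) (hro : r ∣ o) (R : Sylow r G) :
    IsCyclic (R : Subgroup G) ∧
      ∀ w ∈ normalizer ((R : Subgroup G) : Set G), w * w ∈ centralizer ((R : Subgroup G) : Set G) := by
  haveI := D.finite
  have ha2 := D.two_le_a; have hb2 := D.two_le_b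
  have hne_p : r ≠ p := by
    rintro rfl
    rcases hoe with ⟨h, -⟩ | ⟨h, -⟩
    · exact D.not_p_dvd_a (h ▸ hro)
    · exact D.not_p_dvd_b (h ▸ hro)
  have hrq : ¬ r ∣ q := by
    obtain ⟨f, -, rfl⟩ := D.pow
    exact fun h => hne_p ((Nat.prime_dvd_prime_iff_eq hr.out hp.out).1 (hr.out.dvd_of_dvd_pow h))
  have hrd : ¬ r ∣ d := by
    rcases D.hd with ⟨-, h⟩ | ⟨-, h⟩ <;> rw [h]
    · exact hr.out.not_dvd_one
    · exact fun h => hr2 ((Nat.prime_dvd_prime_iff_eq hr.out Nat.prime_two).1 h)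
  have hcop : o.Coprime e := by
    rcases hoe with ⟨rfl, rfl⟩ | ⟨rfl, rfl⟩
    exacts [D.coprime_ab, D.coprime_ab.symm]
  have hre : ¬ r ∣ e := fun h => hr.out.not_dvd_one (hcop ▸ Nat.dvd_gcd hro h)
  have hcopq : (q * e).Coprime o := by
    refine Nat.Coprime.mul_left ?_ hcop.symm
    rcases hoe with ⟨rfl, -⟩ | ⟨rfl, -⟩
    exacts [D.coprime_q_a, D.coprime_q_b]
  have hcard : Nat.card G = q * e * d * o := by
    rw [D.card]; rcases hoe with ⟨rfl, rfl⟩ | ⟨rfl, rfl⟩ <;> ring
  obtain ⟨g, hg⟩ : ∃ g : G, orderOf g = o := by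
    rcases hoe with ⟨rfl, -⟩ | ⟨rfl, -⟩
    exacts [D.exa, D.exb]
  have ho0 : o ≠ 0 := by rcases hoe with ⟨rfl, -⟩ | ⟨rfl, -⟩ <;> omega
  have he0 : e ≠ 0 := by rcases hoe with ⟨-, rfl⟩ | ⟨-, rfl⟩ <;> omega
  -- the Sylow `r`-subgroup inside `⟨g⟩`
  set j := (Nat.card G).factorization r with hj
  have hjo : j = o.factorization r := by
    have hnd : ¬ r ∣ q * e * d := fun h => by
      rcases hr.out.dvd_mul.1 h with h | h
      · rcases hr.out.dvd_mul.1 h with h | h
        exacts [hrq h, hre h]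
      · exact hrd h
    have h0 : q * e * d ≠ 0 := by have := D.four; have := D.d_pos; positivity
    rw [hj, hcard, Nat.factorization_mul h0 ho0, Finsupp.add_apply,
      Nat.factorization_eq_zero_of_not_dvd hnd, zero_add]
  have hjd : r ^ j ∣ orderOf g := by rw [hg, hjo]; exact Nat.ordProj_dvd o r
  let S₀ : Sylow r G := Sylow.ofCard (zpowers (g ^ (orderOf g / r ^ j)))
    (by rw [Nat.card_zpowers, orderOf_pow_orderOf_div (orderOf_pos g).ne' hjd, hj])
  obtain ⟨h, hh⟩ := MulAction.exists_smul_eq G S₀ R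
  set g' := h * g * h⁻¹ with hg'
  have hR : (R : Subgroup G) = zpowers (g' ^ (orderOf g / r ^ j)) := by
    rw [← hh, Sylow.coe_subgroup_smul, Sylow.coe_ofCard, hg', ← MulAut.conj_apply, ← map_pow]
    exact MonoidHom.map_zpowers _ _
  have hcyc : IsCyclic (R : Subgroup G) := by rw [hR]; infer_instance
  refine ⟨hcyc, fun w hw => ?_⟩
  set C := centralizer ((R : Subgroup G) : Set G) with hC
  set N := normalizer ((R : Subgroup G) : Set G) with hN
  have hgC : zpowers g' ≤ C := by
    rw [zpowers_le, hC, hR, mem_centralizer_iff]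
    rintro _ ⟨i, rfl⟩
    exact ((Commute.refl g').pow_left _).zpow_left i
  obtain ⟨k, hk⟩ : o ∣ Nat.card C := by
    have := Subgroup.card_dvd_of_le hgC
    rwa [Nat.card_zpowers, hg', ← MulAut.conj_apply, MulEquiv.orderOf_eq, hg] at this
  have hk2 : k ∣ d := by
    have hCdvd : Nat.card C ∣ d * o := by
      have h1 : (Nat.card C).Coprime (q * e) := by
        refine Nat.coprime_of_dvd fun s hs hsC hsqe => ?_
        haveI := Fact.mk hs
        obtain ⟨z, hz⟩ := exists_prime_orderOf_dvd_card' (G := C) s hsC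
        rw [← Subgroup.orderOf_coe] at hz
        obtain ⟨y, hyR, hy1⟩ : ∃ y ∈ (R : Subgroup G), y ≠ 1 := by
          by_contra! hall
          have h1 : (R : Subgroup G) = ⊥ := (Subgroup.eq_bot_iff_forall _).2 hall
          have h2 : Nat.card (R : Subgroup G) = r ^ j := by rw [R.card_eq_multiplicity, hj]
          rw [h1, Subgroup.card_bot, hjo] at h2
          have := hr.out.factorization_pos_of_dvd ho0 hro
          exact absurd h2.symm (Nat.one_lt_pow this.ne' hr.out.one_lt).ne'
        have hry : r ∣ orderOf y := by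
          obtain ⟨i, hi⟩ := R.isPGroup' ⟨y, hyR⟩
          obtain ⟨i', -, hi'⟩ := (Nat.dvd_prime_pow hr.out).1
            (orderOf_dvd_of_pow_eq_one (congrArg Subtype.val hi : y ^ r ^ i = 1))
          rw [hi']
          refine dvd_pow_self r fun h0 => hy1 (orderOf_eq_one_iff.1 ?_)
          rw [hi', h0, pow_zero]
        have hcyz : Commute y (z : G) := (mem_centralizer_iff.1 z.2 y hyR)
        have hso : s ∣ o := by
          by_cases hsr : r = s
          · exact hsr ▸ hro
          obtain ⟨g₂, hg₂⟩ := orderOf_mul_pow_div hcyz hr.out hs hsr hry hz.symm.dvd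
          rcases D.spec g₂ with h' | h'
          · exact absurd (((Nat.dvd_prime hp.out).1 ((dvd_mul_right r s).trans (hg₂ ▸ h'))).resolve_left
              hr.out.ne_one) hne_p
          · have hboth : r * s ∣ o ∨ r * s ∣ e := by
              rw [← hg₂]; rcases hoe with ⟨rfl, rfl⟩ | ⟨rfl, rfl⟩
              exacts [h', h'.symm]
            rcases hboth with h' | h'
            · exact (dvd_mul_left s r).trans h'
            · exact absurd ((dvd_mul_right r s).trans h') hre
        exact hs.not_dvd_one (hcopq ▸ Nat.dvd_gcd hsqe hso)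
      refine h1.dvd_of_dvd_mul_left ?_
      rw [show q * e * (d * o) = Nat.card G by rw [hcard]; ring]
      exact Subgroup.card_subgroup_dvd_card C
    rw [hk, mul_comm] at hCdvd
    exact (Nat.mul_dvd_mul_iff_right (Nat.pos_of_ne_zero ho0)).1 hCdvd
  -- the automizer
  have hCN : C ≤ N := centralizer_le_normalizer _
  have hker : ((R : Subgroup G).normalizerMonoidHom).ker = C.subgroupOf N :=
    Subgroup.normalizerMonoidHom_ker _
  have hnC : (C.subgroupOf N).Normal := hker ▸ MonoidHom.normal_ker _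
  set t := C.relIndex N with ht
  have hNcard : Nat.card N = o * k * t := by
    rw [← hk, ht, Subgroup.relIndex, ← (C.subgroupOf N).card_mul_index,
      Nat.card_congr (subgroupOfEquivOfLe hCN).toEquiv]
  set n := Nat.card (Sylow r G) with hn
  have hprod : n * (k * t) = q * e * d := by
    have h1 : Nat.card N * n = Nat.card G := by
      rw [hn, R.card_eq_index_normalizer]; exact N.card_mul_index
    rw [hNcard, hcard] at h1
    apply Nat.eq_of_mul_eq_mul_left (Nat.pos_of_ne_zero ho0)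
    linarith
  have hmod : ((k * t : ℕ) : ZMod r) = 2 := by
    have h1 : ((n * (k * t) : ℕ) : ZMod r) = ((q * e * d : ℕ) : ZMod r) := by rw [hprod]
    have hn1 : ((n : ℕ) : ZMod r) = ((1 : ℕ) : ZMod r) :=
      (ZMod.natCast_eq_natCast_iff' _ _ _).2 (card_sylow_modEq_one r G)
    have ho : ((o : ℕ) : ZMod r) = 0 := (ZMod.natCast_eq_zero_iff _ _).2 hro
    push_cast at h1 hn1 ⊢
    rw [hn1, one_mul] at h1
    rw [h1, mul_assoc]
    refine zmod_two (r := r) _ ((o : ZMod r) * d) _ (by rw [ho, zero_mul]) ?_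
    rcases hoe with ⟨rfl, rfl⟩ | ⟨rfl, rfl⟩
    · exact Or.inl ⟨by exact_mod_cast congrArg (Nat.cast (R := ZMod r)) D.ha,
        by exact_mod_cast congrArg (Nat.cast (R := ZMod r)) D.hb⟩
    · exact Or.inr ⟨by exact_mod_cast congrArg (Nat.cast (R := ZMod r)) D.hb,
        by exact_mod_cast congrArg (Nat.cast (R := ZMod r)) D.ha⟩
  have htr : t ∣ r - 1 := by
    haveI := hnC
    have h1 : t ∣ Nat.card (MulAut (R : Subgroup G)) := by
      rw [ht, Subgroup.relIndex, ← hker, Subgroup.index_ker]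
      exact Subgroup.card_subgroup_dvd_card _
    rw [IsCyclic.card_mulAut, R.card_eq_multiplicity, ← hj] at h1
    rcases Nat.eq_zero_or_pos j with h0 | h0
    · rw [h0, pow_zero, Nat.totient_one] at h1
      rw [Nat.dvd_one.1 h1]; exact one_dvd _
    rw [Nat.totient_prime_pow hr.out h0] at h1
    refine Nat.Coprime.dvd_of_dvd_mul_left (Nat.Coprime.pow_right _ ?_) h1
    refine (hr.out.coprime_iff_not_dvd.2 fun hrt => ?_).symm
    have hRC : (R : Subgroup G) ≤ C := by
      haveI := hcyc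
      exact le_centralizer_iff_isMulCommutative.2 IsCyclic.isMulCommutative
    have hidx : r ∣ (R : Subgroup G).index := by
      rw [← Subgroup.relIndex_mul_index hRC, ← Subgroup.relIndex_mul_index hCN]
      exact ((hrt.trans (dvd_mul_right _ _)).trans (dvd_mul_left _ _))
    exact R.not_dvd_index hidx
  have ht2 : t ∣ 2 := by
    have hk12 : k = 1 ∨ k = 2 := by
      have h2 : k ∣ 2 := by
        rcases D.hd with ⟨-, h⟩ | ⟨-, h⟩ <;> rw [h] at hk2
        exacts [hk2.trans (one_dvd 2), hk2]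
      exact (Nat.dvd_prime Nat.prime_two).1 h2
    have hr3 : 3 ≤ r := by have := hr.out.two_le; omega
    have htle : t ≤ r - 1 := Nat.le_of_dvd (by omega) htr
    have ht0 : t ≠ 0 := fun h => by
      rw [h, zero_dvd_iff] at htr; omega
    have h2 : (k * t) % r = 2 := by
      have := (ZMod.natCast_eq_natCast_iff' (k * t) 2 r).1 (by exact_mod_cast hmod)
      rwa [Nat.mod_eq_of_lt (by omega : 2 < r)] at this
    have hrodd : r % 2 = 1 := hr.out.eq_two_or_odd.resolve_left hr2
    obtain ⟨m, hm⟩ : ∃ m, k * t = 2 + r * m :=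
      ⟨k * t / r, by have := Nat.div_add_mod (k * t) r; omega⟩
    have hm1 : m ≤ 1 := by
      by_contra hlt
      have h2r : 2 * r ≤ r * m := by rw [mul_comm 2 r]; exact Nat.mul_le_mul_left r (by omega)
      rcases hk12 with rfl | rfl <;> omega
    rcases hk12 with rfl | rfl <;> rcases Nat.le_one_iff_eq_zero_or_eq_one.1 hm1 with rfl | rfl
    · rw [show t = 2 by omega]
    · omega
    · rw [show t = 1 by omega]
      exact one_dvd _
    · omega
  haveI := hnC
  have := Subgroup.pow_index_mem (C.subgroupOf N) (⟨w, hw⟩ : N)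
  rw [mem_subgroupOf, SubgroupClass.coe_pow] at this
  rcases (Nat.dvd_prime Nat.prime_two).1 ht2 with h1 | h1 <;>
    rw [ht, Subgroup.relIndex] at h1 <;> rw [h1] at this
  · rw [pow_one] at this; exact mul_mem this this
  · rwa [sq] at this

/-- An element of odd order normalizing a cyclic `r`-subgroup centralizes it. -/
theorem commute_of_odd [hp : Fact p.Prime] {r : ℕ} [hr : Fact r.Prime] (hr2 : r ≠ 2) (hrp : r ≠ p)
    (hrG : r ∣ Nat.card G) {Y : Subgroup G} (hY : IsPGroup r Y) {z : G} (hz : Odd (orderOf z))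
    (hzY : z ∈ normalizer (Y : Set G)) : z ∈ centralizer (Y : Set G) := by
  haveI := D.finite
  obtain ⟨o, e, hoe, hro⟩ : ∃ o e, ((o = a ∧ e = b) ∨ (o = b ∧ e = a)) ∧ r ∣ o := by
    rw [D.card] at hrG
    rcases hr.out.dvd_mul.1 hrG with h | h
    · obtain ⟨f, -, rfl⟩ := D.pow
      exact absurd ((Nat.prime_dvd_prime_iff_eq hr.out hp.out).1 (hr.out.dvd_of_dvd_pow h)) hrp
    rcases hr.out.dvd_mul.1 h with h | h
    · rcases hr.out.dvd_mul.1 h with h | h
      · exact ⟨a, b, Or.inl ⟨rfl, rfl⟩, h⟩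
      · exact ⟨b, a, Or.inr ⟨rfl, rfl⟩, h⟩
    · exfalso
      rcases D.hd with ⟨-, hd⟩ | ⟨-, hd⟩ <;> rw [hd] at h
      · exact hr.out.not_dvd_one h
      · exact hr2 ((Nat.prime_dvd_prime_iff_eq hr.out Nat.prime_two).1 h)
  obtain ⟨R, hYR⟩ := hY.exists_le_sylow
  obtain ⟨hcyc, hsq⟩ := D.sylow_odd hr2 hoe hro R
  haveI := hcyc
  have hab : IsMulCommutative (R : Subgroup G) := IsCyclic.isMulCommutative
  have hRC : (R : Subgroup G) ≤ centralizer (Y : Set G) :=
    (le_centralizer_iff_isMulCommutative.2 hab).trans (centralizer_le hYR)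
  -- both `R` and its conjugate by `z` are Sylow subgroups of the centralizer of `Y`
  have hzR : ((z • R : Sylow r G) : Subgroup G) ≤ centralizer (Y : Set G) := by
    intro x hx
    rw [Sylow.coe_subgroup_smul, Subgroup.mem_pointwise_smul_iff_inv_smul_mem] at hx
    rw [mem_centralizer_iff]
    intro y hy
    have hy' : z⁻¹ * y * z ∈ Y := by
      simpa using (Subgroup.mem_normalizer_iff.1 (inv_mem hzY) y).1 hy
    have := mem_centralizer_iff.1 (hRC hx) _ hy'
    simp [MulAut.smul_def] at this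
    calc y * x = z * (z⁻¹ * y * z * (z⁻¹ * x * z)) * z⁻¹ := by group
      _ = z * (z⁻¹ * x * z * (z⁻¹ * y * z)) * z⁻¹ := by rw [this]
      _ = x * y := by group
  haveI : Finite (centralizer (Y : Set G)) := inferInstance
  obtain ⟨c, hc⟩ := MulAction.exists_smul_eq (centralizer (Y : Set G))
    ((z • R).subtype hzR) (R.subtype hRC)
  rw [Sylow.smul_subtype] at hc
  · have hw : ((c : G) * z) • R = R := by
      rw [mul_smul]
      exact Sylow.subtype_injective hc
    have hw2 : (c : G) * z * (c * z) ∈ centralizer ((R : Subgroup G) : Set G) :=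
      hsq _ (Sylow.smul_eq_iff_mem_normalizer.1 hw)
    obtain ⟨m, hm⟩ := hz
    have hz2 : z * z ∈ centralizer (Y : Set G) := by
      rw [mem_centralizer_iff]
      intro y hy
      have h1 := mem_centralizer_iff.1 (centralizer_le hYR hw2) y hy
      have hzy : z * y * z⁻¹ ∈ Y := (Subgroup.mem_normalizer_iff.1 hzY y).1 hy
      have hzzy : z * (z * y * z⁻¹) * z⁻¹ ∈ Y := (Subgroup.mem_normalizer_iff.1 hzY _).1 hzy
      have c1 := mem_centralizer_iff.1 c.2 _ hzy
      have c2 := mem_centralizer_iff.1 c.2 _ hzzy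
      have key : y * ((c : G) * z * (c * z)) = (c * z * (c * z)) * y := h1
      have e1 : (c : G) * z * (c * z) * y = z * z * y * z⁻¹ * z⁻¹ * ((c : G) * z * (c * z)) := by
        calc (c : G) * z * (c * z) * y = c * z * (c * (z * y * z⁻¹)) * z := by group
          _ = c * z * ((z * y * z⁻¹) * c) * z := by rw [c1]
          _ = c * (z * (z * y * z⁻¹) * z⁻¹) * z * c * z := by group
          _ = (z * (z * y * z⁻¹) * z⁻¹) * c * z * c * z := by rw [c2]
          _ = z * z * y * z⁻¹ * z⁻¹ * ((c : G) * z * (c * z)) := by group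
      rw [e1] at key
      have := mul_right_cancel key
      calc y * (z * z) = z * z * y * z⁻¹ * z⁻¹ * (z * z) := by rw [← this]
        _ = z * z * y := by group
    have : (z * z) ^ (m + 1) = z := by
      rw [← sq, ← pow_mul, show 2 * (m + 1) = orderOf z + 1 by omega, pow_succ, pow_orderOf_eq_one,
        one_mul]
    rw [← this]
    exact pow_mem hz2 _

/-- An involution outside the centralizer of a non-trivial `p`-group inverts it. -/
theorem inverts [hp : Fact p.Prime] (hp2 : p ≠ 2) {E : Subgroup G} (hE : IsPGroup p E) {u : G}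
    (hu : orderOf u = 2) (huE : u ∈ normalizer (E : Set G)) {y : G} (hy : y ∈ E) :
    u * y * u⁻¹ = y⁻¹ := by
  haveI := D.finite
  have hu2 : u * u = 1 := by rw [← sq, ← hu, pow_orderOf_eq_one]
  have hconj : ∀ z ∈ E, u * z * u⁻¹ ∈ E := fun z hz => (Subgroup.mem_normalizer_iff.1 huE z).1 hz
  let f : E → E := fun z => ⟨(z : G)⁻¹ * (u * z * u⁻¹), mul_mem (inv_mem z.2) (hconj z z.2)⟩
  have hf : Function.Injective f := by
    intro z w hzw
    have h1 : (z : G)⁻¹ * (u * z * u⁻¹) = (w : G)⁻¹ * (u * w * u⁻¹) := congrArg Subtype.val hzw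
    have hcomm : Commute ((w : G) * (z : G)⁻¹) u := by
      show (w : G) * (z : G)⁻¹ * u = u * (w * (z : G)⁻¹)
      calc (w : G) * (z : G)⁻¹ * u = w * ((z : G)⁻¹ * (u * z * u⁻¹)) * u * (z : G)⁻¹ := by group
        _ = w * ((w : G)⁻¹ * (u * w * u⁻¹)) * u * (z : G)⁻¹ := by rw [h1]
        _ = u * (w * (z : G)⁻¹) := by group
    obtain ⟨k, hk⟩ := hE (w * z⁻¹)
    by_contra hne
    have hx1 : (w : G) * (z : G)⁻¹ ≠ 1 := fun h => hne (Subtype.ext (mul_inv_eq_one.1 h).symm)
    have := D.pow_eq_one_of_commute (D.pow_eq_one_of_pElement (k := k) (congrArg Subtype.val hk)) hx1 hcomm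
    have h2 := orderOf_dvd_of_pow_eq_one this
    rw [hu] at h2
    exact hp2 ((Nat.prime_dvd_prime_iff_eq Nat.prime_two hp.out).1 h2).symm
  obtain ⟨z, hz⟩ := (Finite.injective_iff_surjective.1 hf) ⟨y, hy⟩
  have hzy : (z : G)⁻¹ * (u * z * u⁻¹) = y := congrArg Subtype.val hz
  have hui : u⁻¹ = u := inv_eq_of_mul_eq_one_left hu2
  rw [← hzy, hui]
  calc u * ((z : G)⁻¹ * (u * z * u)) * u = u * (z : G)⁻¹ * u * z * (u * u) := by group
    _ = ((z : G)⁻¹ * (u * z * u))⁻¹ := by
      rw [hu2, mul_one, mul_inv_rev, mul_inv_rev, mul_inv_rev, inv_inv, hui]; group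

/-- The `p`-elements of the normalizer of a non-trivial `p`-subgroup generate a `p`-group
when this normalizer has odd order. -/
theorem isPGroup_closure_of_odd [hp : Fact p.Prime] (M : Subgroup G) (hodd : Odd (Nat.card M)) :
    IsPGroup p (closure {g : M | g ^ p = 1}) := by
  haveI := D.finite
  set X := closure {g : M | g ^ p = 1} with hX
  suffices h : ∀ r : ℕ, r.Prime → r ∣ Nat.card X → r = p by
    obtain ⟨k, hk⟩ := exists_eq_pow Nat.card_pos.ne' h
    exact IsPGroup.of_card hk
  intro r hr hrX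
  by_contra hrp
  haveI := Fact.mk hr
  have hrM : r ∣ Nat.card M := hrX.trans (Subgroup.card_subgroup_dvd_card X)
  have hr2 : r ≠ 2 := fun h => by
    subst h; exact absurd hrM (Nat.two_dvd_ne_zero.2 (Nat.odd_iff.1 hodd))
  obtain ⟨R⟩ := (inferInstance : Nonempty (Sylow r M))
  have hNC : normalizer ((R : Subgroup M) : Set M) ≤ centralizer ((R : Subgroup M) : Set M) := by
    intro z hz
    have hzY : (z : G) ∈ normalizer (((R : Subgroup M).map M.subtype : Subgroup G) : Set G) :=
      Subgroup.le_normalizer_map M.subtype ⟨z, hz, rfl⟩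
    have hzodd : Odd (orderOf (z : G)) := by
      rw [Subgroup.orderOf_coe]; exact Odd.of_dvd_nat hodd (orderOf_dvd_natCard z)
    have h := D.commute_of_odd hr2 hrp (hrM.trans (Subgroup.card_subgroup_dvd_card M))
      (IsPGroup.map R.isPGroup' M.subtype) hzodd hzY
    rw [mem_centralizer_iff] at h ⊢
    exact fun y hy => Subtype.ext (h y ⟨y, hy, rfl⟩)
  have hcompl := MonoidHom.ker_transferSylow_isComplement' R hNC
  set K := (MonoidHom.transferSylow R hNC).ker with hK
  have hXK : X ≤ K := by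
    rw [hX, closure_le]
    intro g hg
    rw [SetLike.mem_coe, hK, MonoidHom.mem_ker, ← orderOf_eq_one_iff]
    obtain ⟨i, hi⟩ := R.isPGroup' (MonoidHom.transferSylow R hNC g)
    have hc : (r ^ i).Coprime p :=
      Nat.Coprime.pow_left i ((Nat.coprime_primes hr hp.out).2 hrp)
    exact Nat.eq_one_of_dvd_coprimes hc (orderOf_dvd_of_pow_eq_one hi)
      (orderOf_dvd_of_pow_eq_one (by rw [← map_pow, hg, map_one]))
  have h1 : r ∣ Nat.card K := hrX.trans (Subgroup.card_dvd_of_le hXK)
  rw [show Nat.card K = (R : Subgroup M).index from hcompl.index_eq_card.symm] at h1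
  exact R.not_dvd_index h1

omit D in
/-- An involutive map of an odd set has a fixed point. -/
theorem exists_fixed_of_odd {α : Type*} [Finite α] (f : α → α) (hf : Function.Involutive f)
    (hodd : Odd (Nat.card α)) : ∃ x, f x = x := by
  classical
  haveI := Fintype.ofFinite α
  by_contra! h
  have h0 : ∑ _x : α, (1 : ZMod 2) = 0 :=
    Finset.sum_involution (fun x _ => f x) (fun _ _ => CharTwo.add_self_eq_zero 1)
      (fun x _ _ => h x) (fun _ _ => Finset.mem_univ _) (fun x _ => hf x)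
  rw [Finset.sum_const, Finset.card_univ, nsmul_one] at h0
  rw [ZMod.natCast_eq_zero_iff, ← Nat.card_eq_fintype_card] at h0
  exact absurd h0 (Nat.two_dvd_ne_zero.2 (Nat.odd_iff.1 hodd))

/-- The `p`-elements normalizing a non-trivial `p`-subgroup generate a `p`-group (odd `p`). -/
theorem isPGroup_normalizing [hp : Fact p.Prime] (hp2 : p ≠ 2) {E : Subgroup G} (hE : IsPGroup p E)
    (hE1 : E ≠ ⊥) : IsPGroup p (closure {g : G | g ^ p = 1 ∧ g ∈ normalizer (E : Set G)}) := by
  haveI := D.finite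
  set M := normalizer (E : Set G) with hM
  obtain ⟨x, hx, hx1⟩ := (Subgroup.bot_or_exists_ne_one E).resolve_left hE1
  have hxp : x ^ p = 1 := by
    obtain ⟨k, hk⟩ := hE ⟨x, hx⟩
    exact D.pow_eq_one_of_pElement (k := k) (congrArg Subtype.val hk)
  have hle : closure {g : G | g ^ p = 1 ∧ g ∈ M} ≤ (closure {g : M | g ^ p = 1}).map M.subtype := by
    rw [closure_le]
    rintro g ⟨hg, hgM⟩
    exact ⟨⟨g, hgM⟩, subset_closure (Subtype.ext hg), rfl⟩
  rcases Nat.even_or_odd (Nat.card M) with heven | hodd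
  swap
  · exact ((D.isPGroup_closure_of_odd M hodd).map M.subtype).to_le hle
  -- even order: all such elements centralize `E`
  obtain ⟨u, hu⟩ := exists_prime_orderOf_dvd_card' (G := M) 2 heven.two_dvd
  rw [← Subgroup.orderOf_coe] at hu
  have huu : (u : G) * u = 1 := by rw [← sq, ← hu, pow_orderOf_eq_one]
  set W := M ⊓ centralizer (E : Set G) with hW
  have hWexp : ∀ w ∈ W, w ^ p = 1 := fun w hw =>
    D.pow_eq_one_of_commute hxp hx1 (mem_centralizer_iff.1 hw.2 x hx :)
  have hWp : IsPGroup p W := fun w => ⟨1, Subtype.ext (by simpa using hWexp w w.2)⟩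
  have hWn : ∀ m ∈ M, ∀ w ∈ W, m * w * m⁻¹ ∈ W := by
    refine fun m hm w hw => Subgroup.mem_inf.2
      ⟨M.mul_mem (M.mul_mem hm hw.1) (M.inv_mem hm), mem_centralizer_iff.2 ?_⟩
    intro y hy
    have hy' : m⁻¹ * y * m ∈ E := by
      simpa using (Subgroup.mem_normalizer_iff.1 (inv_mem hm) y).1 hy
    have := mem_centralizer_iff.1 hw.2 _ hy'
    calc y * (m * w * m⁻¹) = m * (m⁻¹ * y * m * w) * m⁻¹ := by group
      _ = m * (w * (m⁻¹ * y * m)) * m⁻¹ := by rw [this]
      _ = m * w * m⁻¹ * y := by group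
  refine hWp.to_le ((closure_le _).2 ?_)
  rintro z ⟨hz, hzM⟩
  by_contra hzW
  have hv : orderOf (z⁻¹ * u * z) = 2 := by
    rw [← hu]
    exact (MulEquiv.orderOf_eq (MulAut.conj z⁻¹) (u : G)) ▸ congrArg orderOf (by simp)
  have hvM : z⁻¹ * u * z ∈ M := mul_mem (mul_mem (inv_mem hzM) u.2) hzM
  have huvW : z⁻¹ * u * z * u ∈ W := by
    refine ⟨mul_mem hvM u.2, mem_centralizer_iff.2 fun y hy => ?_⟩
    have h1 := D.inverts hp2 hE hu u.2 hy
    have h2 := D.inverts hp2 hE hv hvM (inv_mem hy)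
    rw [inv_inv, ← h1] at h2
    calc y * (z⁻¹ * u * z * u) = z⁻¹ * u * z * (u * y * (u : G)⁻¹) * (z⁻¹ * u * z)⁻¹ *
        (z⁻¹ * u * z * u) := by rw [h2]
      _ = z⁻¹ * u * z * u * y := by group
  let α := {m : G // z⁻¹ * m ∈ W}
  have hcardα : Nat.card α = Nat.card W :=
    Nat.card_congr ((Equiv.mulLeft z⁻¹).subtypeEquiv fun m => Iff.rfl)
  have hodd : Odd (Nat.card α) := by
    rw [hcardα]
    obtain ⟨k, hk⟩ := IsPGroup.iff_card.1 hWp
    rw [hk]
    exact (hp.out.odd_of_ne_two hp2).pow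
  have hσ : ∀ m : α, z⁻¹ * ((u : G) * m.1 * u) ∈ W := fun m => by
    have h1 := hWn u u.2 _ m.2
    have h2 := mul_mem huvW h1
    have hui : (u : G)⁻¹ = u := inv_eq_of_mul_eq_one_left huu
    convert h2 using 1
    rw [hui]
    calc z⁻¹ * ((u : G) * m.1 * u) = z⁻¹ * u * z * ((u : G) * u) * (z⁻¹ * m.1) * u := by
          rw [huu]; group
      _ = _ := by group
  obtain ⟨⟨m, hm⟩, hfix⟩ := exists_fixed_of_odd (fun m : α => (⟨_, hσ m⟩ : α))
    (fun m => Subtype.ext (by
      show (u : G) * ((u : G) * m.1 * u) * u = m.1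
      calc _ = ((u : G) * u) * m.1 * ((u : G) * u) := by group
        _ = m.1 := by rw [huu, one_mul, mul_one])) hodd
  have hcomm : Commute m u := by
    have h := congrArg Subtype.val hfix
    have h' : (u : G) * m * u = m := h
    calc m * u = (u : G) * m * u * u := by rw [h']
      _ = u * m * ((u : G) * u) := by group
      _ = u * m := by rw [huu, mul_one]
  -- `m ^ p ∈ W`, so `m` is a `p`-element outside `W`
  have hpow : ∀ i : ℕ, (z ^ i)⁻¹ * m ^ i ∈ W := by
    intro i
    induction i with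
    | zero => simp
    | succ i ih =>
      have h1 := mul_mem (hWn z⁻¹ (inv_mem hzM) _ ih) hm
      convert h1 using 1
      rw [pow_succ, pow_succ]; group
  have hmp : m ^ p = 1 := by
    refine D.pow_eq_one_of_pElement (k := 2) ?_
    have := hWexp _ (hpow p)
    rw [hz, inv_one, one_mul, ← pow_mul] at this
    rwa [sq]
  have hm1 : m ≠ 1 := fun h => hzW (by
    have := inv_mem hm
    rw [h] at this; simpa using this)
  have h2 := orderOf_dvd_of_pow_eq_one (D.pow_eq_one_of_commute hmp hm1 hcomm)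
  rw [hu] at h2
  exact hp2 ((Nat.prime_dvd_prime_iff_eq Nat.prime_two hp.out).1 h2).symm

/-- The Sylow `p`-subgroups meet trivially. -/
theorem sylow_inf_eq_bot [hp : Fact p.Prime] {P Q : Sylow p G} (hPQ : P ≠ Q) :
    (P : Subgroup G) ⊓ Q = ⊥ := by
  haveI := D.finite
  by_cases hp2 : p = 2
  · refine (Subgroup.eq_bot_iff_forall _).2 fun x hx => ?_
    by_contra hx1
    have hexp : ∀ (S : Sylow p G) (y : G), y ∈ (S : Subgroup G) → x ∈ (S : Subgroup G) → Commute x y := by
      intro S y hy hxS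
      have h1 := D.pow_eq_one_of_mem S (mul_mem hxS hy)
      have h2 := D.pow_eq_one_of_mem S hy
      have h3 := D.pow_eq_one_of_mem S hxS
      subst hp2
      show x * y = y * x
      have hy' : y⁻¹ = y := inv_eq_of_mul_eq_one_left (by rw [← sq, h2])
      have hx' : x⁻¹ = x := inv_eq_of_mul_eq_one_left (by rw [← sq, h3])
      have hxy : (x * y)⁻¹ = x * y := inv_eq_of_mul_eq_one_left (by rw [← sq, h1])
      rw [mul_inv_rev, hx', hy'] at hxy
      exact hxy.symm
    have hle : (P : Subgroup G) ⊔ Q ≤ centralizer ({x} : Set G) := sup_le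
      (fun y hy => mem_centralizer_singleton_iff.2 (hexp P y hy hx.1).symm.eq)
      (fun y hy => mem_centralizer_singleton_iff.2 (hexp Q y hy hx.2).symm.eq)
    have hpg : IsPGroup p ((P : Subgroup G) ⊔ Q : Subgroup G) := by
      refine fun w => ⟨1, Subtype.ext ?_⟩
      simpa using D.pow_eq_one_of_commute (D.pow_eq_one_of_mem P hx.1) hx1
        (mem_centralizer_singleton_iff.1 (hle w.2)).symm
    exact hPQ (Sylow.ext ((P.is_maximal' hpg le_sup_left).symm.trans (Q.is_maximal' hpg le_sup_right)))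
  by_contra hne
  obtain ⟨⟨P', Q'⟩, ⟨hne', hI⟩, hmax⟩ := Set.exists_max_image
    {S : Sylow p G × Sylow p G | S.1 ≠ S.2 ∧ (S.1 : Subgroup G) ⊓ S.2 ≠ ⊥}
    (fun S => Nat.card ((S.1 : Subgroup G) ⊓ S.2 : Subgroup G)) (Set.toFinite _) ⟨(P, Q), hPQ, hne⟩
  set E := (P' : Subgroup G) ⊓ Q' with hE
  have hEp : IsPGroup p E := P'.isPGroup'.to_le inf_le_left
  have hclos := D.isPGroup_normalizing hp2 hEp hI
  obtain ⟨S, hS⟩ := hclos.exists_le_sylow
  -- any Sylow subgroup containing `E` properly grows inside `S`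
  have key : ∀ T : Sylow p G, E ≤ T → (T : Subgroup G) ≠ E → T = S := by
    intro T hET hTE
    by_contra hTS
    have hnc := normalizerCondition_of_isNilpotent (h := IsPGroup.isNilpotent T.isPGroup')
      (E.subgroupOf T) (lt_top_iff_ne_top.2 fun h => hTE (le_antisymm
        (fun t ht => by
          have : (⟨t, ht⟩ : (T : Subgroup G)) ∈ E.subgroupOf T := h ▸ mem_top _
          exact this) hET))
    obtain ⟨t, ht, htE⟩ := SetLike.exists_of_lt hnc
    have htM : (t : G) ∈ normalizer (E : Set G) := by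
      rw [Subgroup.mem_normalizer_iff]
      intro y
      have key' := Subgroup.mem_normalizer_iff.1 ht
      constructor
      · intro hy
        exact (key' ⟨y, hET hy⟩).1 hy
      · intro hy
        have hyT : y ∈ (T : Subgroup G) := by
          have := mul_mem (mul_mem (inv_mem t.2) (hET hy)) t.2
          simpa [mul_assoc] using this
        exact (key' ⟨y, hyT⟩).2 hy
    have htS : (t : G) ∈ (S : Subgroup G) := hS (subset_closure ⟨D.pow_eq_one_of_mem T t.2, htM⟩)
    have hES : E ≤ (S : Subgroup G) := fun y hy =>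
      hS (subset_closure ⟨D.pow_eq_one_of_mem P' hy.1, Subgroup.le_normalizer hy⟩)
    have hlt : E < (T : Subgroup G) ⊓ S :=
      lt_of_le_of_ne (le_inf hET hES) fun h => htE (show (t : G) ∈ E from h ▸ ⟨t.2, htS⟩)
    have h1 := hmax (T, S) ⟨hTS, fun h => hI (le_bot_iff.1 (h ▸ le_inf hET hES))⟩
    exact absurd h1 (not_le.2 (by
      exact lt_of_le_of_ne (Subgroup.card_le_of_le hlt.le) fun h =>
        hlt.ne (Subgroup.eq_of_le_of_card_ge hlt.le h.ge)))
  have hcard := (D.card_sylow P').trans (D.card_sylow Q').symm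
  refine hne' ((key P' inf_le_left fun h => ?_).trans (key Q' inf_le_right fun h => ?_).symm)
  · exact hne' (Sylow.ext (Subgroup.eq_of_le_of_card_ge (h.le.trans inf_le_right) hcard.ge))
  · exact hne' (Sylow.ext (Subgroup.eq_of_le_of_card_ge (h.le.trans inf_le_left) hcard.le).symm)

end Data

end CfsgLib.CharsMore.SpectrumPSL
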