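import Cfsg.Agent.Lib.CharsMore.SpectrumPSL.Local
import Cfsg.Agent.Lib.Perm.ZassG.PSL
import Cfsg.Agent.Lib.Perm.ZassG.SharpPGLEven
import Cfsg.Agent.Lib.Recog.ProjSpectrum
import Cfsg.Agent.Lib.PSL2.Tori
import Cfsg.Agent.Lib.PSL2.Congr
import Cfsg.Agent.Lib.Base.Frobenius

/-!
# A group with the order and the element orders of `PSL(2, q)` is `PSL(2, q)`

The conjugation action on the `q + 1` Sylow `p`-subgroups is that of a Zassenhaus group.
-/

set_option autoImplicit false
set_option linter.style.haveILetI false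

namespace CfsgLib.CharsMore.SpectrumPSL

open Subgroup MulAction

universe u

variable {G : Type u} [Group G]

namespace Data

variable {p q a b d : ℕ} (D : Data G p q a b d)
include D

theorem coprime_q_abd : q.Coprime (a * b * d) :=
  (Nat.Coprime.mul_right D.coprime_q_a D.coprime_q_b).mul_right D.coprime_q_d

omit D in
theorem mem_of_smul_eq [hp : Fact p.Prime] [Finite G] {P Q : Sylow p G} {u : G}
    (hu : u ∈ (P : Subgroup G)) (h : u • Q = Q) : u ∈ (Q : Subgroup G) := by
  have h1 : u ∈ (P : Subgroup G) ⊓ normalizer ((Q : Subgroup G) : Set G) :=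
    ⟨hu, Sylow.smul_eq_iff_mem_normalizer.1 h⟩
  have h2 := P.isPGroup'.inf_normalizer_sylow Q
  exact (h2.le h1).2

omit D in
theorem smul_self [Fact p.Prime] {P : Sylow p G} {u : G} (hu : u ∈ (P : Subgroup G)) : u • P = P :=
  Sylow.smul_eq_iff_mem_normalizer.2 (Subgroup.le_normalizer hu)

/-- Only the identity of `P` fixes another Sylow `p`-subgroup. -/
theorem eq_one_of_smul_eq [hp : Fact p.Prime] {P Q : Sylow p G} (hPQ : Q ≠ P) {u : G}
    (hu : u ∈ (P : Subgroup G)) (h : u • Q = Q) : u = 1 := by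
  haveI := D.finite
  have h1 : u ∈ (P : Subgroup G) ⊓ Q := ⟨hu, mem_of_smul_eq hu h⟩
  rwa [D.sylow_inf_eq_bot hPQ.symm, Subgroup.mem_bot] at h1

theorem card_sylow_modEq [hp : Fact p.Prime] (P : Sylow p G) :
    q ∣ Nat.card {Q : Sylow p G // Q ≠ P} := by
  haveI := D.finite
  letI : MulAction (P : Subgroup G) {Q : Sylow p G // Q ≠ P} :=
    { smul := fun u Q => ⟨(u : G) • Q.1, fun h => Q.2
        (smul_left_cancel (u : G) (h.trans (smul_self u.2).symm))⟩
      one_smul := fun Q => Subtype.ext (one_smul G Q.1)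
      mul_smul := fun u v Q => Subtype.ext (mul_smul (u : G) (v : G) Q.1) }
  have h := CfsgLib.Base.card_dvd_of_free (A := (P : Subgroup G))
    (X := {Q : Sylow p G // Q ≠ P})
    fun u Q h => Subtype.ext (D.eq_one_of_smul_eq Q.2 u.2 (congrArg Subtype.val h))
  rwa [D.card_sylow P] at h

theorem not_normal [hp : Fact p.Prime] (P : Sylow p G) : ¬ (P : Subgroup G).Normal := by
  intro hn
  haveI := D.finite
  have hidx : (P : Subgroup G).index = a * b * d := by
    have h := (P : Subgroup G).card_mul_index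
    rw [D.card_sylow P, D.card] at h
    exact Nat.eq_of_mul_eq_mul_left (by have := D.four; omega) h
  have hcop : (Nat.card (P : Subgroup G)).Coprime (P : Subgroup G).index := by
    rw [D.card_sylow P, hidx]; exact D.coprime_q_abd
  obtain ⟨K, hK⟩ := Subgroup.exists_right_complement'_of_coprime hcop
  have hKcard : Nat.card K = a * b * d := by rw [← hidx, hK.symm.index_eq_card]
  let X := {x : G // x ∈ (P : Subgroup G) ∧ x ≠ 1}
  letI : MulAction K X :=
    { smul := fun k x => ⟨(k : G) * x.1 * (k : G)⁻¹, hn.conj_mem _ x.2.1 _, fun h => x.2.2 (by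
        simpa using h)⟩
      one_smul := fun x => Subtype.ext (by show ((1 : K) : G) * x.1 * ((1 : K) : G)⁻¹ = x.1; simp)
      mul_smul := fun k l x => Subtype.ext (by
        show ((k * l : K) : G) * x.1 * ((k * l : K) : G)⁻¹ = k * (l * x.1 * (l : G)⁻¹) * (k : G)⁻¹
        push_cast; group) }
  have h := CfsgLib.Base.card_dvd_of_free (A := K) (X := X) fun k x h => by
    have h1 : (k : G) * x.1 * (k : G)⁻¹ = x.1 := congrArg Subtype.val h
    have hc : Commute x.1 (k : G) := (mul_inv_eq_iff_eq_mul.1 h1).symm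
    have h2 := D.pow_eq_one_of_commute (D.pow_eq_one_of_mem P x.2.1) x.2.2 hc
    refine Subtype.ext (orderOf_eq_one_iff.1 (Nat.eq_one_of_dvd_coprimes
      (D.coprime_q_abd.coprime_dvd_left D.p_dvd_q) (orderOf_dvd_of_pow_eq_one h2) ?_))
    rw [← hKcard, Subgroup.orderOf_coe]
    exact orderOf_dvd_natCard k
  have hX : Nat.card X + 1 = q := by
    classical
    haveI := Fintype.ofFinite G
    rw [← D.card_sylow P, Nat.card_eq_fintype_card, Nat.card_eq_fintype_card,
      Fintype.card_subtype, Fintype.card_subtype]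
    have : (Finset.univ.filter fun x => x ∈ (P : Subgroup G)) =
        insert 1 (Finset.univ.filter fun x => x ∈ (P : Subgroup G) ∧ x ≠ 1) := by
      ext x; by_cases hx : x = 1 <;> simp [hx]
    rw [this, Finset.card_insert_of_notMem (by simp)]
  rw [hKcard] at h
  have hle := Nat.le_of_dvd (by have := D.four; omega) h
  have : a * b * d = a * (q + 1) := by rw [mul_assoc, D.hb]
  have := D.four
  nlinarith [D.two_le_a]

theorem card_sylow_eq [hp : Fact p.Prime] : Nat.card (Sylow p G) = q + 1 := by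
  haveI := D.finite
  classical
  obtain ⟨P⟩ := (inferInstance : Nonempty (Sylow p G))
  obtain ⟨k, hk⟩ := D.card_sylow_modEq P
  have hn : Nat.card (Sylow p G) = 1 + q * k := by
    rw [← hk]
    haveI := Fintype.ofFinite (Sylow p G)
    rw [Nat.card_eq_fintype_card, Nat.card_eq_fintype_card, Fintype.card_subtype_compl,
      Fintype.card_subtype_eq]
    have := Fintype.card_pos (α := Sylow p G)
    omega
  have hk0 : k ≠ 0 := by
    rintro rfl
    refine D.not_normal P ?_
    rw [mul_zero, add_zero] at hn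
    haveI : Subsingleton (Sylow p G) := (Nat.card_eq_one_iff_unique.1 hn).1
    exact P.normal_of_subsingleton
  have hidx : (P : Subgroup G).index = a * b * d := by
    have h := (P : Subgroup G).card_mul_index
    rw [D.card_sylow P, D.card] at h
    exact Nat.eq_of_mul_eq_mul_left (by have := D.four; omega) h
  obtain ⟨m, hm⟩ : Nat.card (Sylow p G) ∣ a * b * d := hidx ▸ P.card_dvd_index
  rw [hn] at hm ⊢
  have hq := D.four
  have hd := D.d_pos
  -- `(1 + q k) (d m) = q ^ 2 - 1`
  have e1 : (1 + q * k) * (d * m) + 1 = q * q := by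
    have h1 : a * d * (b * d) + 1 = q * q := by
      have h2 : a * d * (q + 1) + 1 = q * q := by
        obtain ⟨w, hw⟩ : ∃ w, a * d = w := ⟨_, rfl⟩
        have := D.ha; rw [hw] at this ⊢; subst this; ring
      rw [D.hb]; exact h2
    rw [← h1]
    calc (1 + q * k) * (d * m) + 1 = (1 + q * k) * m * d + 1 := by ring
      _ = a * b * d * d + 1 := by rw [← hm]
      _ = a * d * (b * d) + 1 := by ring
  obtain ⟨x, hx⟩ : ∃ x, d * m = x := ⟨_, rfl⟩
  rw [hx] at e1
  -- `x + 1 = q j`
  have hxj : q ∣ x + 1 := by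
    have h1 : q ∣ (x + 1) + q * (k * x) := by
      rw [show (x + 1) + q * (k * x) = q * q by rw [← e1]; ring]; exact dvd_mul_right q q
    exact (Nat.dvd_add_left (dvd_mul_right q _)).1 h1
  obtain ⟨j, hj⟩ := hxj
  have hj0 : 1 ≤ j := Nat.pos_of_ne_zero (by rintro rfl; omega)
  have hkk : 1 ≤ k := Nat.pos_of_ne_zero hk0
  -- j k = 1
  have e2 : q * q + q * k = q * q * (j * k) + q * j := by
    have hx' : x + 1 = q * j := hj
    nlinarith [e1, hx']
  have e3 : q + k = q * (j * k) + j := by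
    apply Nat.eq_of_mul_eq_mul_left (show 0 < q by omega)
    linarith
  have hjk : j * k = 1 := by
    by_contra hne
    have h1 : 1 ≤ j * k := Nat.mul_pos hj0 hkk
    have h2 : k ≤ j * k := Nat.le_mul_of_pos_left k hj0
    have h3 : 2 ≤ j * k := by omega
    nlinarith [Nat.mul_le_mul hq h3]
  have : k = 1 := Nat.eq_one_of_mul_eq_one_left hjk
  rw [this]; ring

/-- `P` is regular on the other Sylow subgroups. -/
theorem existsUnique_smul [hp : Fact p.Prime] (P : Sylow p G) (y z : Sylow p G) (hy : y ≠ P)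
    (hz : z ≠ P) : ∃! u : ↥(P : Subgroup G), (u : G) • y = z := by
  haveI := D.finite
  classical
  let f : ↥(P : Subgroup G) → {Q : Sylow p G // Q ≠ P} := fun u =>
    ⟨(u : G) • y, fun h => hy (smul_left_cancel (u : G) (h.trans (smul_self u.2).symm))⟩
  have hinj : Function.Injective f := fun u v h => by
    have h1 : (u : G) • y = (v : G) • y := congrArg Subtype.val h
    have h2 : ((v : G)⁻¹ * u) • y = y := by rw [mul_smul, h1, inv_smul_smul]
    exact Subtype.ext (inv_mul_eq_one.1 (D.eq_one_of_smul_eq hy (mul_mem (inv_mem v.2) u.2) h2)).symm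
  have hcard : Nat.card ↥(P : Subgroup G) = Nat.card {Q : Sylow p G // Q ≠ P} := by
    haveI := Fintype.ofFinite (Sylow p G)
    rw [D.card_sylow P, Nat.card_eq_fintype_card, Fintype.card_subtype_compl,
      Fintype.card_subtype_eq, ← Nat.card_eq_fintype_card, D.card_sylow_eq]
    omega
  obtain ⟨u, hu⟩ := ((Nat.bijective_iff_injective_and_card f).2 ⟨hinj, hcard⟩).2 ⟨z, hz⟩
  exact ⟨u, congrArg Subtype.val hu, fun v hv => hinj (Subtype.ext
    (hv.trans (congrArg Subtype.val hu).symm))⟩

theorem eq_one_of_three [hp : Fact p.Prime] {g : G} {A B C : Sylow p G} (hAB : A ≠ B) (hBC : B ≠ C)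
    (hAC : A ≠ C) (hA : g • A = A) (hB : g • B = B) (hC : g • C = C) : g = 1 := by
  haveI := D.finite
  obtain ⟨u, hu, -⟩ := D.existsUnique_smul A B C hAB.symm hAC.symm
  have hgu : g * (u : G) * g⁻¹ ∈ (A : Subgroup G) :=
    (Subgroup.mem_normalizer_iff.1 (Sylow.smul_eq_iff_mem_normalizer.1 hA) u).1 u.2
  have h1 : (g * (u : G) * g⁻¹) • B = C := by
    rw [mul_smul, mul_smul, inv_smul_eq_iff.2 hB.symm, hu, hC]
  have hcomm : g * (u : G) * g⁻¹ = u := by
    have := (D.existsUnique_smul A B C hAB.symm hAC.symm).unique (y₁ := ⟨_, hgu⟩) (y₂ := u) h1 hu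
    exact congrArg Subtype.val this
  have hu1 : (u : G) ≠ 1 := fun h => hBC (by rw [← hu, h, one_smul])
  have hgp := D.pow_eq_one_of_commute (D.pow_eq_one_of_mem A u.2) hu1
    (mul_inv_eq_iff_eq_mul.1 hcomm).symm
  -- `g` is a `p`-element normalizing `A`
  have hgpg : IsPGroup p (zpowers g) := by
    by_cases h1 : g = 1
    · exact IsPGroup.of_card (n := 0) (by simp [h1])
    · exact IsPGroup.of_card (n := 1) (by rw [Nat.card_zpowers, pow_one, orderOf_eq_prime hgp h1])
  have hgA : g ∈ (A : Subgroup G) := by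
    have h1 : g ∈ zpowers g ⊓ normalizer ((A : Subgroup G) : Set G) :=
      ⟨mem_zpowers g, Sylow.smul_eq_iff_mem_normalizer.1 hA⟩
    have h2 := hgpg.inf_normalizer_sylow A
    exact (h2.le h1).2
  exact D.eq_one_of_smul_eq hAB.symm hgA hB

theorem faithful [hp : Fact p.Prime] : FaithfulSMul G (Sylow p G) := by
  haveI := D.finite
  classical
  haveI := Fintype.ofFinite (Sylow p G)
  have h3 : 2 < Fintype.card (Sylow p G) := by
    rw [← Nat.card_eq_fintype_card, D.card_sylow_eq]; have := D.four; omega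
  obtain ⟨A, B, C, hAB, hAC, hBC⟩ := Fintype.two_lt_card_iff.1 h3
  refine ⟨fun {g h} hgh => ?_⟩
  have key : ∀ Q : Sylow p G, (h⁻¹ * g) • Q = Q := fun Q => by rw [mul_smul, hgh, inv_smul_smul]
  exact (inv_mul_eq_one.1 (D.eq_one_of_three hAB hBC hAC (key A) (key B) (key C))).symm

theorem two_pretransitive [hp : Fact p.Prime] : IsMultiplyPretransitive G (Sylow p G) 2 := by
  haveI := D.finite
  rw [is_two_pretransitive_iff]
  intro A B C E hAB hCE
  obtain ⟨g, hg⟩ := exists_smul_eq G A C
  have hgB : g • B ≠ C := fun h => hAB (smul_left_cancel g (hg.trans h.symm))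
  obtain ⟨u, hu, -⟩ := D.existsUnique_smul C (g • B) E hgB (Ne.symm hCE)
  exact ⟨(u : G) * g, by rw [mul_smul, hg, smul_self u.2], by rw [mul_smul, hu]⟩

theorem card_stabilizer_two [hp : Fact p.Prime] {A B : Sylow p G} (hAB : A ≠ B) :
    Nat.card (CfsgLib.Perm.ZassG.pairStab G A B) = a := by
  haveI := D.finite
  haveI := D.two_pretransitive
  have h1 : Nat.card (stabilizer G A) * (q + 1) = q * (a * b * d) := by
    rw [← D.card_sylow_eq, ← D.card, Sylow.stabilizer_eq_normalizer,
      A.card_eq_index_normalizer]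
    exact Subgroup.card_mul_index _
  have h2 : Nat.card (stabilizer G A) = q * a := by
    rw [show q * (a * b * d) = q * a * (q + 1) by rw [← D.hb]; ring] at h1
    exact Nat.eq_of_mul_eq_mul_right (by omega) h1
  have h3 : Nat.card (orbit (stabilizer G A) B) * Nat.card (stabilizer (stabilizer G A) B) =
      Nat.card (stabilizer G A) := by
    rw [← Nat.card_prod]
    exact Nat.card_congr (orbitProdStabilizerEquivGroup (stabilizer G A) B)
  have h4 : orbit (stabilizer G A) B = {Q : Sylow p G | Q ≠ A} := by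
    ext Q
    constructor
    · rintro ⟨g, rfl⟩ h
      exact hAB (smul_left_cancel (g : G) (g.2.trans h.symm))
    · intro hQ
      obtain ⟨u, hu, -⟩ := D.existsUnique_smul A B Q hAB.symm hQ
      exact ⟨⟨(u : G), smul_self u.2⟩, hu⟩
  have h5 : Nat.card (orbit (stabilizer G A) B) = q := by
    classical
    haveI := Fintype.ofFinite (Sylow p G)
    rw [h4, Set.coe_setOf, Nat.card_eq_fintype_card, Fintype.card_subtype_compl, Fintype.card_subtype_eq,
      ← Nat.card_eq_fintype_card, D.card_sylow_eq]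
    omega
  have h6 : Nat.card (stabilizer (stabilizer G A) B) =
      Nat.card (CfsgLib.Perm.ZassG.pairStab G A B) :=
    Nat.card_congr
      { toFun := fun g => ⟨(g.1 : G), ⟨g.1.2, g.2⟩⟩
        invFun := fun g => ⟨⟨g.1, g.2.1⟩, g.2.2⟩
        left_inv := fun g => rfl
        right_inv := fun g => rfl }
  rw [h5, h6, h2] at h3
  exact Nat.eq_of_mul_eq_mul_left (by have := D.four; omega) h3

omit D in
/-- Conjugation by an element of order two of a cyclic group of prime order is `±1`. -/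
theorem conj_eq_or_inv {r : ℕ} (hr : r.Prime) {n v : G} (hn : orderOf n = r) {i : ℤ}
    (hi : v * n * v⁻¹ = n ^ i) (hv : v * v = 1) : v * n * v⁻¹ = n ∨ v * n * v⁻¹ = n⁻¹ := by
  have h1 : n ^ (i * i) = n := by
    calc n ^ (i * i) = (n ^ i) ^ i := zpow_mul n i i
      _ = (v * n * v⁻¹) ^ i := by rw [hi]
      _ = v * n ^ i * v⁻¹ := conj_zpow
      _ = v * (v * n * v⁻¹) * v⁻¹ := by rw [hi]
      _ = (v * v) * n * (v * v)⁻¹ := by group
      _ = n := by rw [hv]; group
  have h2 : n ^ ((i - 1) * (i + 1)) = 1 := by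
    rw [show (i - 1) * (i + 1) = i * i - 1 by ring, zpow_sub, h1, zpow_one, mul_inv_cancel]
  rw [← orderOf_dvd_iff_zpow_eq_one, hn] at h2
  rcases Int.Prime.dvd_mul' hr h2 with h3 | h3
  · left
    rw [hi]
    have := orderOf_dvd_iff_zpow_eq_one.1 (hn ▸ h3 : (orderOf n : ℤ) ∣ i - 1)
    rw [zpow_sub, zpow_one, mul_inv_eq_one] at this
    exact this
  · right
    rw [hi]
    have := orderOf_dvd_iff_zpow_eq_one.1 (hn ▸ h3 : (orderOf n : ℤ) ∣ i + 1)
    rw [zpow_add, zpow_one, mul_eq_one_iff_eq_inv] at this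
    exact this

theorem no_regular_normal [hp : Fact p.Prime] (N : Subgroup G) (hN : N.Normal)
    (ht : IsPretransitive N (Sylow p G)) : ∃ A : Sylow p G, stabilizer N A ≠ ⊥ := by
  haveI := D.finite
  classical
  by_contra! hreg
  obtain ⟨P⟩ := (inferInstance : Nonempty (Sylow p G))
  have hNcard : Nat.card N = q + 1 := by
    rw [← D.card_sylow_eq]
    refine Nat.card_congr (Equiv.ofBijective (fun n : N => n • P) ⟨fun n m h => ?_, fun Q => ?_⟩)
    · have h1 : m⁻¹ * n ∈ stabilizer N P := by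
        rw [mem_stabilizer_iff, mul_smul]
        exact inv_smul_eq_iff.2 h
      rw [hreg P, Subgroup.mem_bot] at h1
      exact (inv_mul_eq_one.1 h1).symm
    · exact exists_smul_eq N P Q
  have hq := D.four
  have hpq1 : ¬ p ∣ q + 1 := fun h =>
    hp.out.not_dvd_one ((Nat.dvd_add_right D.p_dvd_q).1 h)
  -- `P` is transitive on the non-identity elements of `N`
  have htrans : ∀ x y : G, x ∈ N → x ≠ 1 → y ∈ N → y ≠ 1 →
      ∃ u ∈ (P : Subgroup G), u * x * u⁻¹ = y := by
    intro x y hx hx1 hy hy1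
    let f : ↥(P : Subgroup G) → {m : N // m ≠ 1} := fun u =>
      ⟨⟨(u : G) * x * (u : G)⁻¹, hN.conj_mem _ hx _⟩, fun h => hx1 (by
        simpa using congrArg Subtype.val h)⟩
    have hinj : Function.Injective f := fun u v h => by
      have h1 : (u : G) * x * (u : G)⁻¹ = v * x * (v : G)⁻¹ :=
        congrArg (fun m : {m : N // m ≠ 1} => ((m : N) : G)) h
      have hc : Commute ((v : G)⁻¹ * u) x := by
        show (v : G)⁻¹ * u * x = x * ((v : G)⁻¹ * u)
        calc (v : G)⁻¹ * u * x = (v : G)⁻¹ * (u * x * (u : G)⁻¹) * u := by group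
          _ = (v : G)⁻¹ * (v * x * (v : G)⁻¹) * u := by rw [h1]
          _ = x * ((v : G)⁻¹ * u) := by group
      by_contra hne
      have hw1 : (v : G)⁻¹ * u ≠ 1 := fun h => hne (Subtype.ext (inv_mul_eq_one.1 h).symm)
      have hxp := D.pow_eq_one_of_commute
        (D.pow_eq_one_of_mem P (mul_mem (inv_mem v.2) u.2)) hw1 hc
      have : orderOf x ∣ q + 1 := by
        rw [← hNcard, ← Subgroup.orderOf_mk x hx]
        exact orderOf_dvd_natCard _
      rw [orderOf_eq_prime hxp hx1] at this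
      exact hpq1 this
    have hcard : Nat.card (P : Subgroup G) = Nat.card {m : N // m ≠ 1} := by
      haveI := Fintype.ofFinite N
      rw [D.card_sylow P, Nat.card_eq_fintype_card, Fintype.card_subtype_compl,
        Fintype.card_subtype_eq, ← Nat.card_eq_fintype_card, hNcard]
      omega
    obtain ⟨u, hu⟩ := ((Nat.bijective_iff_injective_and_card f).2 ⟨hinj, hcard⟩).2
      ⟨⟨y, hy⟩, fun h => hy1 (congrArg Subtype.val h)⟩
    exact ⟨u, u.2, congrArg (fun m : {m : N // m ≠ 1} => ((m : N) : G)) hu⟩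
  obtain ⟨r, hr, hrd⟩ := Nat.exists_prime_and_dvd (show q + 1 ≠ 1 by omega)
  haveI := Fact.mk hr
  obtain ⟨n0, hn0⟩ := exists_prime_orderOf_dvd_card' (G := N) r (hNcard ▸ hrd)
  rw [← Subgroup.orderOf_coe] at hn0
  have hn01 : (n0 : G) ≠ 1 := fun h => hr.ne_one (by rw [← hn0, h, orderOf_one])
  have hexp : ∀ m : G, m ∈ N → m ≠ 1 → orderOf m = r := fun m hm hm1 => by
    obtain ⟨u, -, rfl⟩ := htrans n0 m n0.2 hn01 hm hm1
    rw [← MulAut.conj_apply, MulEquiv.orderOf_eq, hn0]
  obtain ⟨k, hk⟩ : ∃ k, q + 1 = r ^ k := by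
    refine exists_eq_pow (by omega) fun s hs hsd => ?_
    haveI := Fact.mk hs
    obtain ⟨m, hm⟩ := exists_prime_orderOf_dvd_card' (G := N) s (hNcard ▸ hsd)
    rw [← Subgroup.orderOf_coe] at hm
    rw [← hm, hexp m m.2 fun h => hs.ne_one (by rw [← hm, h, orderOf_one])]
  have hrp : r ≠ p := fun h => hpq1 (h ▸ hrd)
  have hrq : ¬ r ∣ q := by
    obtain ⟨f, -, rfl⟩ := D.pow
    exact fun h => hrp ((Nat.prime_dvd_prime_iff_eq hr hp.out).1 (hr.dvd_of_dvd_pow h))
  obtain ⟨gb, hgb⟩ := D.exb
  have hra : ¬ r ∣ a := by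
    rcases D.hd with ⟨hp2, hd⟩ | ⟨hp2, hd⟩
    · intro h
      have hb := D.hb; rw [hd, mul_one] at hb
      exact hr.not_dvd_one (D.coprime_ab ▸ Nat.dvd_gcd h (hb ▸ hrd))
    · have hqodd : ¬ 2 ∣ q := fun h => by
        obtain ⟨f, -, hqf⟩ := D.pow
        exact hp2 ((Nat.prime_dvd_prime_iff_eq Nat.prime_two hp.out).1
          (Nat.prime_two.dvd_of_dvd_pow (hqf ▸ h))).symm
      have hr2 : r = 2 := by
        have h2 : 2 ∣ r ^ k := by rw [← hk]; omega
        exact ((Nat.prime_dvd_prime_iff_eq Nat.prime_two hr).1 (Nat.prime_two.dvd_of_dvd_pow h2)).symm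
      intro h
      have hb : b * 2 = q + 1 := hd ▸ D.hb
      have ha : a * 2 + 1 = q := hd ▸ D.ha
      have hb2 : 2 ∣ b := by
        have hbd : b ∣ r ^ k := by rw [← hk, ← hb]; exact dvd_mul_right b 2
        obtain ⟨i, -, hi⟩ := (Nat.dvd_prime_pow hr).1 hbd
        rw [hi, hr2]
        exact dvd_pow_self 2 fun h0 => by rw [h0, pow_zero] at hi; have := D.two_le_b; omega
      rw [hr2] at h
      omega
  -- `N` is a normal Sylow `r`-subgroup
  have hfac : (Nat.card G).factorization r = k := by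
    rw [D.card, show q * (a * b * d) = q * a * r ^ k by rw [← hk, ← D.hb]; ring,
      Nat.factorization_mul (Nat.mul_ne_zero (by omega) (by have := D.two_le_a; omega))
        (pow_ne_zero k hr.ne_zero), Finsupp.add_apply, hr.factorization_pow, Finsupp.single_eq_same,
      Nat.factorization_eq_zero_of_not_dvd (fun h => (hr.dvd_mul.1 h).elim hrq hra), zero_add]
  let S : Sylow r G := Sylow.ofCard N (by rw [hNcard, hk, hfac])
  have hbd : b ∣ r ^ k := by rw [← hk, ← D.hb]; exact dvd_mul_right b d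
  have hgbp : IsPGroup r (zpowers gb) := by
    obtain ⟨i, -, hi⟩ := (Nat.dvd_prime_pow hr).1 hbd
    exact IsPGroup.of_card (by rw [Nat.card_zpowers, hgb, hi])
  obtain ⟨T, hT⟩ := hgbp.exists_le_sylow
  obtain ⟨g, hg⟩ := exists_smul_eq G S T
  have hgbN : gb ∈ N := by
    have h1 := hT (mem_zpowers gb)
    rw [← hg] at h1
    change gb ∈ ((g • S : Sylow r G) : Subgroup G) at h1
    rw [Sylow.coe_subgroup_smul, Sylow.coe_ofCard, Subgroup.mem_pointwise_smul_iff_inv_smul_mem] at h1
    have h2 := hN.conj_mem _ h1 g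
    simpa [MulAut.smul_def, mul_assoc] using h2
  have hbr : b = r := by
    rw [← hgb]
    exact hexp gb hgbN fun h => by rw [h, orderOf_one] at hgb; have := D.two_le_b; omega
  rcases D.hd with ⟨hp2, hd⟩ | ⟨hp2, hd⟩
  · -- `q` even: `N` is cyclic of order `q + 1`
    have hb : b = q + 1 := by have := D.hb; rw [hd, mul_one] at this; exact this
    subst hp2
    have hz : zpowers (n0 : G) = N := Subgroup.eq_of_le_of_card_ge (zpowers_le.2 n0.2) (by
      rw [hNcard, Nat.card_zpowers, hn0, ← hb, hbr])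
    haveI := Fintype.ofFinite N
    have hsub : (Finset.univ.filter fun m : N => (m : G) ≠ 1).card ≤ 2 := by
      refine (Finset.card_le_card (t := {n0, n0⁻¹}) ?_).trans Finset.card_le_two
      intro m hm
      rw [Finset.mem_filter] at hm
      obtain ⟨v, hv, hvm⟩ := htrans n0 m n0.2 hn01 m.2 hm.2
      obtain ⟨i, hi⟩ : v * (n0 : G) * v⁻¹ ∈ zpowers (n0 : G) := hz.symm ▸ hN.conj_mem _ n0.2 v
      rw [Finset.mem_insert, Finset.mem_singleton]
      rcases conj_eq_or_inv hr hn0 hi.symm (by rw [← sq]; exact D.pow_eq_one_of_mem P hv) with h | h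
      · exact Or.inl (Subtype.ext (hvm.symm.trans h))
      · exact Or.inr (Subtype.ext (hvm.symm.trans h))
    have hsplit := Finset.card_filter_add_card_filter_not (s := (Finset.univ : Finset N))
      (fun m : N => (m : G) ≠ 1)
    have hone : (Finset.univ.filter fun m : N => ¬ (m : G) ≠ 1).card ≤ 1 := by
      refine Finset.card_le_one.2 fun x hx y hy => ?_
      simp at hx hy
      exact Subtype.ext (by rw [hx, hy])
    rw [Finset.card_univ, ← Nat.card_eq_fintype_card, hNcard] at hsplit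
    omega
  · -- `q` odd: `N` has exponent `2` and `b ≥ 3`
    have hb : b * 2 = q + 1 := hd ▸ D.hb
    have hr2 : r = 2 := by
      have h2 : 2 ∣ r ^ k := by rw [← hk, ← hb]; exact dvd_mul_left 2 b
      exact ((Nat.prime_dvd_prime_iff_eq Nat.prime_two hr).1 (Nat.prime_two.dvd_of_dvd_pow h2)).symm
    omega

/-- The conjugation action on the Sylow `p`-subgroups is that of a Zassenhaus group. -/
theorem isZassenhausGroup [hp : Fact p.Prime] : Cfsg.IsZassenhausGroup G (Sylow p G) := by
  haveI := D.finite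
  classical
  refine ⟨D.faithful, D.two_pretransitive, fun g A B C hAB hBC hAC => D.eq_one_of_three hAB hBC hAC,
    ?_, fun N hN ht => D.no_regular_normal N hN ht⟩
  haveI := Fintype.ofFinite (Sylow p G)
  have h2 : 1 < Fintype.card (Sylow p G) := by
    rw [← Nat.card_eq_fintype_card, D.card_sylow_eq]; have := D.four; omega
  obtain ⟨A, B, hAB⟩ := Fintype.exists_pair_of_one_lt_card h2
  haveI : Nontrivial (CfsgLib.Perm.ZassG.pairStab G A B) := by
    rw [← Finite.one_lt_card_iff_nontrivial, D.card_stabilizer_two hAB]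
    exact D.two_le_a
  obtain ⟨g, hg⟩ := exists_ne (1 : CfsgLib.Perm.ZassG.pairStab G A B)
  exact ⟨g, fun h => hg (Subtype.ext h), A, B, hAB, g.2.1, g.2.2⟩

/-- The recognition theorem. -/
theorem nonempty_mulEquiv [hp : Fact p.Prime] {F : Type*} [Field F] [Finite F]
    (hF : Nat.card F = q) : Nonempty (G ≃* Matrix.ProjectiveSpecialLinearGroup (Fin 2) F) := by
  haveI := D.finite
  haveI := Fintype.ofFinite F
  classical
  haveI := Fintype.ofFinite (Sylow p G)
  have h2 : 1 < Fintype.card (Sylow p G) := by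
    rw [← Nat.card_eq_fintype_card, D.card_sylow_eq]; have := D.four; omega
  obtain ⟨A, B, hAB⟩ := Fintype.exists_pair_of_one_lt_card h2
  have hZ := D.isZassenhausGroup
  rcases D.hd with ⟨hp2, hd⟩ | ⟨-, hd⟩
  · have heven : Even q := by
      obtain ⟨f, hf, hq⟩ := D.pow
      rw [hq, hp2, Nat.even_pow]; exact ⟨even_two, hf.ne'⟩
    obtain ⟨K, hK, hK', hcard, ⟨e⟩⟩ := CfsgLib.Perm.ZassG.exists_pgl_of_odd hZ hAB
      (by rw [D.card_stabilizer_two hAB, D.card_sylow_eq]; have := D.ha; subst hd; omega)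
      (by rw [D.card_sylow_eq]; exact heven.add_one)
    rw [D.card_sylow_eq, Nat.card_eq_fintype_card] at hcard
    let ψ : K ≃+* F := FiniteField.ringEquivOfCardEq
      (by rw [← Nat.card_eq_fintype_card (α := F), hF]; omega)
    obtain ⟨e2⟩ := CfsgLib.PSL2.nonempty_pgl_congr (n := Fin 2) ψ
    obtain ⟨pF, hpF⟩ := CharP.exists F
    haveI := Fact.mk (CharP.char_is_prime F pF)
    have hbij : Function.Bijective
        (Matrix.ProjectiveSpecialLinearGroup.toPGL (n := Fin 2) (R := F)) :=
      ⟨Matrix.ProjectiveSpecialLinearGroup.toPGL_injective, MonoidHom.range_eq_top.1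
        (CfsgLib.PSL2.pslRange_eq_top_of_even (F := F) (hF ▸ heven))⟩
    exact ⟨(e.trans e2).trans (MulEquiv.ofBijective _ hbij).symm⟩
  · have hF' : CfsgLib.Perm.ZassG.IsKernel A (A : Subgroup G) :=
      ⟨fun u hu => smul_self hu,
        fun g hg u hu => (Subgroup.mem_normalizer_iff.1 (Sylow.smul_eq_iff_mem_normalizer.1 hg) u).1 hu,
        fun y z => D.existsUnique_smul A y z⟩
    obtain ⟨K, hK, hK', -, hcard, ⟨e⟩⟩ := CfsgLib.Perm.ZassG.exists_psl hZ hAB hF'
      (by rw [D.card_stabilizer_two hAB, D.card_sylow A]; have := D.ha; subst hd; omega)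
    rw [D.card_sylow A, Nat.card_eq_fintype_card] at hcard
    let ψ : K ≃+* F := FiniteField.ringEquivOfCardEq
      (by rw [← Nat.card_eq_fintype_card (α := F), hF]; omega)
    obtain ⟨e2⟩ := CfsgLib.PSL2.nonempty_psl_congr (n := Fin 2) ψ
    exact ⟨e.trans e2⟩

end Data

/-- `PSL(2, q)` is determined by its order and its set of element orders. -/
theorem recognition {F : Type*} [Field F] [Fintype F] (h4 : 4 ≤ Fintype.card F)
    (hspec : Set.range (orderOf : G → ℕ) =
      Set.range (orderOf : Matrix.ProjectiveSpecialLinearGroup (Fin 2) F → ℕ))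
    (hcard : Nat.card G = Nat.card (Matrix.ProjectiveSpecialLinearGroup (Fin 2) F)) :
    Nonempty (G ≃* Matrix.ProjectiveSpecialLinearGroup (Fin 2) F) := by
  obtain ⟨p, hpF⟩ := CharP.exists F
  haveI := Fact.mk (CharP.char_is_prime F p)
  obtain ⟨f, hf, hq⟩ := CfsgLib.Recog.exists_card_eq_pow (F := F) p
  set q := Fintype.card F with hqdef
  set d := CfsgLib.Recog.dTwo F with hddef
  have hgcd : Nat.gcd 2 (q - 1) = d := by
    rw [hddef, CfsgLib.Recog.dTwo]
    split_ifs with h
    · obtain ⟨k, hk⟩ := h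
      rw [hqdef, hk]
      rcases Nat.eq_zero_or_pos k with rfl | hk0
      · omega
      · exact Nat.Coprime.gcd_eq_one (Nat.prime_two.coprime_iff_not_dvd.2 (by omega))
    · exact Nat.gcd_eq_left (by rw [Nat.not_even_iff] at h; omega)
  have hd : (p = 2 ∧ d = 1) ∨ (p ≠ 2 ∧ d = 2) := by
    rw [hddef, CfsgLib.Recog.dTwo, ← hqdef]
    by_cases h : p = 2
    · exact Or.inl ⟨h, if_pos (by rw [hq, h, Nat.even_pow]; exact ⟨even_two, hf.ne'⟩)⟩
    · refine Or.inr ⟨h, if_neg ?_⟩
      rw [hq, Nat.even_pow]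
      exact fun hh => h ((Fact.out : p.Prime).even_iff.1 hh.1)
  have hd0 : 0 < d := by rcases hd with ⟨-, h⟩ | ⟨-, h⟩ <;> omega
  have ha : (q - 1) / d * d + 1 = q := by
    rw [Nat.div_mul_cancel CfsgLib.Recog.dTwo_dvd_card_sub_one]; omega
  have hb : (q + 1) / d * d = q + 1 := Nat.div_mul_cancel CfsgLib.Recog.dTwo_dvd_card_add_one
  have hmem : ∀ n, n ∈ Set.range (orderOf : G → ℕ) ↔
      n = p ∨ n ∣ (q - 1) / d ∨ n ∣ (q + 1) / d := fun n => by
    rw [hspec, CfsgLib.Recog.range_orderOf_PSL_two p]; rfl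
  have D : Data G p q ((q - 1) / d) ((q + 1) / d) d :=
    { pow := ⟨f, hf, hq⟩
      four := h4
      ha := ha
      hb := hb
      hd := hd
      card := by
        have h1 := CfsgLib.Classical.card_PSL_two_mul (F := F)
        rw [Nat.card_eq_fintype_card (α := F), ← hqdef, hgcd, ← hcard] at h1
        apply Nat.eq_of_mul_eq_mul_left hd0
        rw [h1, show q ^ 2 - 1 = (q + 1) * (q - 1) by rw [← Nat.sq_sub_sq, one_pow]]
        conv_lhs => rw [← hb, show q - 1 = (q - 1) / d * d by omega]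
        ring
      spec := fun g => by
        rcases (hmem _).1 ⟨g, rfl⟩ with h | h | h
        exacts [Or.inl h.dvd, Or.inr (Or.inl h), Or.inr (Or.inr h)]
      exa := (hmem _).2 (Or.inr (Or.inl dvd_rfl))
      exb := (hmem _).2 (Or.inr (Or.inr dvd_rfl)) }
  exact D.nonempty_mulEquiv Nat.card_eq_fintype_card

end CfsgLib.CharsMore.SpectrumPSL
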